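import Cfsg.Agent.H521.KKL.RowHN
import Cfsg.Agent.H825.KS.Tools
import Cfsg.Agent.H163.PG.HN

/-!
# S4577: the row HN (helper521)

Elementary abelian defect groups of order 16. As in the row of S4546 (`H521/KKL/RowHN.lean`): class `2B` is excluded by
`O₂(C(W0))`, so `D` is pure of type `2A`; subgroups of order 8 of `D` do not commute with elements of order 3, 5, 11, 19;
for 7, the order of the normalizer of an element of order 7 of `C(2A)` divides 168.
-/

set_option autoImplicit false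

open Subgroup Cfsg Cfsg.Agent.H613.KS
open Cfsg.Agent.H613.KKL (E8)

namespace Cfsg.Agent.H521.KS.HN

open Cfsg.Agent.HN.Pres Cfsg.Agent.HN.H0Basic
open Cfsg.Agent.HN.XWords (W0 W0_sq)
open Cfsg.Agent.HN.NormalH (ψ)
open Cfsg.Agent
open Cfsg.Agent.KFacts.HN
open Cfsg.Agent.CpAutHNFive.TFive (G)
open Cfsg.Agent.H521.KKL.HN (PureA le_cent comm_map)

attribute [local instance] H755.CC.HNB.finite_G H755.CC.HNB.simple_G

/-- an element of `D` outside a set of fewer than 16 elements: a nontrivial element -/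
theorem exists_ne_one {C : Type*} [Group C] {D : Subgroup C} (h : E16 D) : ∃ a ∈ D, a ≠ 1 := by
  by_contra hcon
  push Not at hcon
  have h1 : D = ⊥ := by
    rw [eq_bot_iff]
    intro d hd
    exact mem_bot.2 (hcon d hd)
  have h2 := h.card
  rw [h1, card_bot] at h2
  norm_num at h2

theorem e16_order {C : Type*} [Group C] {D : Subgroup C} (h : E16 D) {a : C} (ha : a ∈ D) (h1 : a ≠ 1) :
    orderOf a = 2 :=
  orderOf_eq_prime (by rw [pow_two]; exact h.inv a ha) h1

theorem e16_comm {C : Type*} [Group C] {D : Subgroup C} (h : E16 D) {a b : C} (ha : a ∈ D) (hb : b ∈ D) :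
    a * b = b * a := by
  have h1 : a * b = (a * b)⁻¹ := eq_inv_of_mul_eq_one_left (h.inv _ (D.mul_mem ha hb))
  rw [h1, mul_inv_rev, inv_eq_of_mul_eq_one_left (h.inv a ha), inv_eq_of_mul_eq_one_left (h.inv b hb)]

/-- a subgroup of order 8 -/
theorem exists_e8 {C : Type*} [Group C] {D : Subgroup C} (h : E16 D) : ∃ E : Subgroup C, E ≤ D ∧ E8 E := by
  have h2 : Fact (Nat.Prime 2) := ⟨Nat.prime_two⟩
  have hfin : Finite D := Nat.finite_of_card_ne_zero (by rw [h.card]; norm_num)
  obtain ⟨K, hK⟩ := Sylow.exists_subgroup_card_pow_prime (G := D) 2 (n := 3) (by rw [h.card]; norm_num)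
  refine ⟨K.map D.subtype, map_subtype_le K, ?_, ?_⟩
  · rw [card_map_of_injective D.subtype_injective, hK]
    norm_num
  · rintro _ ⟨k, -, rfl⟩
    exact h.inv k k.2

/-- **order 7** -/
theorem seven {D : Subgroup G} (h : E16 D) (hA : ∀ z ∈ D, z ≠ 1 → IsConj z (ψ τ)) {x : G} (hx : orderOf x = 7)
    (hc : ∀ d ∈ D, d * x = x * d) : False := by
  obtain ⟨a, ha, ha1⟩ := exists_ne_one h
  obtain ⟨g, hg⟩ := isConj_iff.1 (hA a ha ha1)
  have hc1 := comm_map hc g
  have hx1 : orderOf (g * x * g⁻¹) = 7 := by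
    rw [← hx]
    exact MulEquiv.orderOf_eq (MulAut.conj g) x
  have h16 : E16 (D.map (MulAut.conj g).toMonoidHom) := by
    refine ⟨?_, ?_⟩
    · rw [card_map_of_injective (MulAut.conj g).injective, h.card]
    · rintro _ ⟨d, hd, rfl⟩
      rw [← map_mul, h.inv d hd, map_one]
  have hτ : ψ τ ∈ D.map (MulAut.conj g).toMonoidHom := ⟨a, ha, hg⟩
  generalize D.map (MulAut.conj g).toMonoidHom = E at h16 hc1 hτ
  generalize g * x * g⁻¹ = y at hc1 hx1
  have hyH : y ∈ Cfsg.Agent.HN.NormalH.H := by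
    have h1 : y ∈ centralizer ({ψ τ} : Set G) := mem_centralizer_singleton_iff.2 (hc1 _ hτ).symm
    rw [← H755.CC.HNB.range_ψ, Cfsg.Agent.HN.NormalH.range_ψ] at h1
    exact h1
  have hEH : E ≤ Cfsg.Agent.HN.NormalH.H := by
    intro d hd
    have h1 : d ∈ centralizer ({ψ τ} : Set G) := mem_centralizer_singleton_iff.2 (e16_comm h16 hd hτ)
    rw [← H755.CC.HNB.range_ψ, Cfsg.Agent.HN.NormalH.range_ψ] at h1
    exact h1
  have h1 := H163.PG.HNR.card_nm_seven (x := ⟨y, hyH⟩) (by rw [Subgroup.orderOf_mk]; exact hx1)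
  have h2 : E.subgroupOf Cfsg.Agent.HN.NormalH.H ≤ H149.Sp.Eng.Nm (⟨y, hyH⟩ : Cfsg.Agent.HN.NormalH.H) := by
    intro d hd
    apply H149.Sp.Eng.mem_nm_of
    have h3 : d * ⟨y, hyH⟩ * d⁻¹ = ⟨y, hyH⟩ := by
      apply Subtype.ext
      change (d : G) * y * (d : G)⁻¹ = y
      have h4 : (d : G) * y = y * d := hc1 _ (mem_subgroupOf.1 hd)
      rw [h4, mul_inv_cancel_right]
    rw [h3]
    exact mem_zpowers _
  have h3 := (card_dvd_of_le h2).trans h1
  rw [Nat.card_congr (subgroupOfEquivOfLe hEH).toEquiv, h16.card] at h3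
  norm_num at h3

/-- a class `2B` element of `D` is excluded by `O₂(C(W0))` -/
theorem no_W0 {D : Subgroup G} {x : G} (h : Cfg D x) (hW : W0 ∈ D) : False := by
  have h1 : RS ≤ D := by
    refine h.rad (zpowers W0) (by rw [zpowers_le]; exact hW) RS H755.CC.HNB.RS_two ?_ ?_
    · intro r hr
      rw [mem_centralizer_iff]
      rintro _ ⟨k, rfl⟩
      have h2 : Commute r W0 := mem_PP.1 (RS_le_PP hr)
      exact (h2.zpow_right k).eq.symm
    · intro c hc n hn
      refine conj_RS (mem_PP.2 ?_) hn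
      exact (mem_centralizer_iff.1 hc W0 (mem_zpowers _)).symm
  have h2 := Nat.le_of_dvd (by rw [h.e16.card]; norm_num) (card_dvd_of_le h1)
  rw [card_RS, h.e16.card] at h2
  norm_num at h2

theorem nocfg : NoCfg G := by
  intro D x h
  have h2F : Fact (Nat.Prime 2) := ⟨Nat.prime_two⟩
  -- no involution of class 2B
  have hA : ∀ z ∈ D, z ≠ 1 → IsConj z (ψ τ) := by
    intro z hz hz1
    rcases Classes.inv_class (e16_order h.e16 hz hz1) with h1 | h1
    · exact h1
    · exfalso
      obtain ⟨c, hc⟩ := isConj_iff.1 h1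
      exact no_W0 (H825.KS.cfg_map h (MulAut.conj c)) ⟨z, hz, hc⟩
  obtain ⟨E, hED, hE⟩ := exists_e8 h.e16
  have hpure : PureA E := ⟨hE, fun z hz hz1 => hA z (hED hz) hz1⟩
  -- `x ≠ 1`
  have hx1 : orderOf x ≠ 1 := by
    intro h1
    rw [orderOf_eq_one_iff] at h1
    obtain ⟨P, hP⟩ := Sylow.exists_subgroup_card_pow_prime (G := G) 2 (n := 5)
      (by rw [H755.CC.HNB.card_G]; norm_num)
    obtain ⟨c, -, hc⟩ := h.syl P (IsPGroup.of_card hP) (by intro q _; rw [h1, mul_one, one_mul])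
    have h2 : P.map (MulAut.conj c).toMonoidHom ≤ D := by
      rintro _ ⟨q, hq, rfl⟩
      exact hc q hq
    have h3 := card_dvd_of_le h2
    rw [card_map_of_injective (MulAut.conj c).injective, h.e16.card, hP] at h3
    norm_num at h3
  obtain ⟨p, hp, hpx⟩ := Nat.exists_prime_and_dvd hx1
  have hpG : p ∣ 273030912000000 := by
    rw [← H755.CC.HNB.card_G]
    exact hpx.trans (orderOf_dvd_natCard x)
  have hx2 : orderOf (x ^ (orderOf x / p)) = p := orderOf_pow_orderOf_div (orderOf_pos x).ne' hpx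
  have hcD : ∀ d ∈ D, d * x ^ (orderOf x / p) = x ^ (orderOf x / p) * d := fun d hd =>
    ((show Commute d x from h.comm d hd).pow_right _).eq
  have hc : ∀ d ∈ E, d * x ^ (orderOf x / p) = x ^ (orderOf x / p) * d := fun d hd => hcD d (hED hd)
  rcases H521.KKL.HN.prime_cases hp hpG with rfl | rfl | rfl | rfl | rfl | rfl
  · have := h.odd
    rw [← Nat.not_even_iff_odd] at this
    exact this (even_iff_two_dvd.2 hpx)
  · exact H521.KKL.HN.three hpure hx2 hc
  · exact H521.KKL.HN.five hpure hx2 hc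
  · exact seven h.e16 hA hx2 hcD
  · exact H521.KKL.HN.eleven hpure hx2 hc
  · exact H521.KKL.HN.nineteen hpure hx2 hc

end Cfsg.Agent.H521.KS.HN

namespace Cfsg.Agent.H521.KS

universe u

/-- **the row HN** of S4577 -/
theorem E_HN {S : Type u} [Group S] [Finite S] (h : Spor.IsoHN S) : NoCfg S := by
  obtain ⟨e⟩ := h
  exact H825.KS.noCfg_congr e HN.nocfg

end Cfsg.Agent.H521.KS
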